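import Groth.Agent.ConormalLib.Thicken
import Groth.Agent.ConormalLib.Chart
import Groth.Agent.ConormalLib.Trans
import Groth.Agent.OmegaUnivLib.Local
import Groth.Agent.OmegaUnivLib.Aff
import Groth.Prelude.Def_MultCurve

/-!
# Extending morphisms along a first order thickening with left exact cotangent sequence
-/

set_option autoImplicit false
set_option backward.isDefEq.respectTransparency false
set_option backward.defeqAttrib.useBackward true
set_option linter.style.haveILetI false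
set_option maxHeartbeats 1000000

universe u

open CategoryTheory CategoryTheory.Limits AlgebraicGeometry TopologicalSpace Opposite
open Groth.Agent.OmegaUnivLib Groth.Agent.ConormalLib

namespace Groth.Agent.RibbonExt

noncomputable section

section General

variable {Y : Scheme.{u}}

theorem preservesFiniteLimits_sec (W : Y.Opens) :
    PreservesFiniteLimits (Scheme.Modules.toPresheaf Y ⋙ (CategoryTheory.evaluation _ _).obj (op W)) := by
  haveI : PreservesFiniteLimits ((CategoryTheory.evaluation (Opens Y)ᵒᵖ AddCommGrpCat.{u}).obj (op W)) :=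
    ⟨fun J _ _ => evaluation_preservesLimitsOfShape (J := J) (K := (Opens Y)ᵒᵖ) (C := AddCommGrpCat.{u}) (op W)⟩
  haveI : PreservesFiniteLimits (Scheme.Modules.toPresheaf Y) := inferInstance
  exact comp_preservesFiniteLimits (Scheme.Modules.toPresheaf Y) _

theorem app_injective {M N : Y.Modules} (g : M ⟶ N) [Mono g] (W : Y.Opens) : Function.Injective (g.app W) := by
  haveI := preservesFiniteLimits_sec W
  exact (AddCommGrpCat.mono_iff_injective
    ((Scheme.Modules.toPresheaf Y ⋙ (CategoryTheory.evaluation _ _).obj (op W)).map g)).mp inferInstance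

theorem exists_app_eq {S : ShortComplex Y.Modules} (hS : S.Exact) [Mono S.f] (W : Y.Opens)
    (b : Γ(S.X₂, W)) (hb : S.g.app W b = 0) : ∃ a, S.f.app W a = b := by
  haveI := preservesFiniteLimits_sec W
  let F := Scheme.Modules.toPresheaf Y ⋙ (CategoryTheory.evaluation _ _).obj (op W)
  haveI : F.PreservesZeroMorphisms := ⟨fun _ _ => rfl⟩
  exact (ShortComplex.ab_exact_iff _).mp (hS.map_of_mono_of_preservesKernel F inferInstance inferInstance) b hb

theorem pullSect_res {X : Scheme.{u}} (h : Y ⟶ X) (M : X.Modules) {V W : X.Opens} (e : V ≤ W) (m : Γ(M, W)) :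
    OmegaSh.pullSect h M V (M.presheaf.map (homOfLE e).op m) =
      ((Scheme.Modules.pullback h).obj M).presheaf.map (homOfLE (h.preimage_mono e)).op (OmegaSh.pullSect h M W m) :=
  OmegaUnivLib.hom_natural ((Scheme.Modules.pullbackPushforwardAdjunction h).unit.app M) (homOfLE e) m

theorem pullSect_smul {X : Scheme.{u}} (h : Y ⟶ X) (M : X.Modules) {W : X.Opens} (r : Γ(X, W)) (m : Γ(M, W)) :
    OmegaSh.pullSect h M W (r • m) = h.app W r • OmegaSh.pullSect h M W m :=
  Scheme.Modules.Hom.app_smul ((Scheme.Modules.pullbackPushforwardAdjunction h).unit.app M) r m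

theorem pullMap_eq {X : Scheme.{u}} (h : Y ⟶ X) (M : X.Modules) (W : X.Opens) (m : Γ(M, W)) :
    PullbackMod.pullMap h M (W := W) (W' := h ⁻¹ᵁ W) le_rfl m = OmegaSh.pullSect h M W m := by
  show ((Scheme.Modules.pullback h).obj M).presheaf.map (𝟙 _).op (OmegaSh.pullSect h M W m) = _
  rw [op_id, CategoryTheory.Functor.map_id]
  rfl

theorem pullMap_res {X : Scheme.{u}} (h : Y ⟶ X) (M : X.Modules) {U U' : X.Opens} {W W' : Y.Opens}
    (e : W ≤ h ⁻¹ᵁ U) (e' : W' ≤ h ⁻¹ᵁ U') (hU : U' ≤ U) (hW : W' ≤ W) (m : Γ(M, U)) :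
    PullbackMod.pullMap h M e' (M.presheaf.map (homOfLE hU).op m) =
      ((Scheme.Modules.pullback h).obj M).presheaf.map (homOfLE hW).op (PullbackMod.pullMap h M e m) := by
  show ((Scheme.Modules.pullback h).obj M).presheaf.map (homOfLE e').op (OmegaSh.pullSect h M U' _) = _
  rw [pullSect_res]
  exact (ConormalLib.res_mod _ _ _).trans (ConormalLib.res_mod _ _ _).symm

end General

variable {D C S : Scheme.{u}} (i : D ⟶ C) [IsClosedImmersion i] {pC : C ⟶ S}
  {Ω₁ : C.Modules} (d₁ : OmegaSh.Der pC Ω₁)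

/-- The value of a function and of its differential along the thickened subscheme. -/
def Lifts (W : C.Opens) (b : Γ(D, i ⁻¹ᵁ W)) (ω : Γ((Scheme.Modules.pullback i).obj Ω₁, i ⁻¹ᵁ W)) (a : Γ(C, W)) : Prop :=
  i.app W a = b ∧ OmegaSh.pullSect i Ω₁ W (d₁.app W a) = ω

theorem Lifts.res {W V : C.Opens} (e : V ≤ W) {b ω a} (h : Lifts i d₁ W b ω a) :
    Lifts i d₁ V (D.presheaf.map (homOfLE (i.preimage_mono e)).op b)
      (((Scheme.Modules.pullback i).obj Ω₁).presheaf.map (homOfLE (i.preimage_mono e)).op ω)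
      (C.presheaf.map (homOfLE e).op a) :=
  ⟨by rw [← h.1]; exact congr($(i.naturality (homOfLE e).op) a),
   by rw [app_res, pullSect_res, h.2]⟩

theorem Lifts.zero (W : C.Opens) : Lifts i d₁ W 0 0 0 := ⟨map_zero _, by rw [map_zero, map_zero]⟩

theorem Lifts.add {W : C.Opens} {b ω a b' ω' a'} (h : Lifts i d₁ W b ω a) (h' : Lifts i d₁ W b' ω' a') :
    Lifts i d₁ W (b + b') (ω + ω') (a + a') :=
  ⟨by rw [map_add, h.1, h'.1], by rw [map_add, map_add, h.2, h'.2]⟩

theorem Lifts.one (W : C.Opens) : Lifts i d₁ W 1 0 1 := ⟨map_one _, by rw [app_one, map_zero]⟩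

theorem Lifts.mul {W : C.Opens} {b ω a b' ω' a'} (h : Lifts i d₁ W b ω a) (h' : Lifts i d₁ W b' ω' a') :
    Lifts i d₁ W (b * b') (b • ω' + b' • ω) (a * a') :=
  ⟨by rw [map_mul, h.1, h'.1],
   by rw [app_mul, map_add, pullSect_smul, pullSect_smul, h.1, h'.1, h.2, h'.2]⟩

/-- Hypotheses: a first order thickening with left exact cotangent sequence. -/
structure Thick {Ω₂ : D.Modules} (d₂ : OmegaSh.Der (i ≫ pC) Ω₂)
    (φ : Omega.conormal i ⟶ (Scheme.Modules.pullback i).obj Ω₁)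
    (c : (Scheme.Modules.pullback i).obj Ω₁ ⟶ Ω₂) : Prop where
  sq : ∀ (U : C.Opens), IsAffineOpen U → RingHom.ker (i.app U).hom * RingHom.ker (i.app U).hom = ⊥
  surj : Function.Surjective i
  conormal : OmegaSh.IsConormalDiff i d₁ φ
  compat : OmegaSh.IsDiffCompat i d₁ d₂ c
  w : φ ≫ c = 0
  exact : (ShortComplex.mk φ c w).Exact
  mono : Mono φ

variable {i d₁} {Ω₂ : D.Modules} {d₂ : OmegaSh.Der (i ≫ pC) Ω₂}
  {φ : Omega.conormal i ⟶ (Scheme.Modules.pullback i).obj Ω₁}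
  {c : (Scheme.Modules.pullback i).obj Ω₁ ⟶ Ω₂}

theorem conormal_apply (T : Thick i d₁ d₂ φ c) (W : C.Opens) (m : Γ(ClSub.idealMod i.ker, W)) :
    φ.app (i ⁻¹ᵁ W) (OmegaSh.pullSect i (ClSub.idealMod i.ker) W m) =
      OmegaSh.pullSect i Ω₁ W (d₁.app W (OmegaSh.idealSect i.ker W m)) :=
  T.conormal W m

theorem eq_zero (T : Thick i d₁ d₂ φ c) {W : C.Opens} {a : Γ(C, W)} (h : Lifts i d₁ W 0 0 a) : a = 0 := by
  obtain ⟨m, rfl⟩ := exists_idealSect_eq i W a h.1
  haveI := T.mono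
  have hm : OmegaSh.pullSect i (ClSub.idealMod i.ker) W m = 0 :=
    (injective_iff_map_eq_zero _).mp (app_injective φ _) _ ((conormal_apply T W m).trans h.2)
  refine TopCat.Sheaf.eq_of_locally_eq' C.sheaf (fun V : {V : C.affineOpens // V.1 ≤ W} => V.1.1) W
    (fun V => homOfLE V.2) (fun x hx => ?_) _ _ (fun V => ?_)
  · obtain ⟨_, ⟨U, hU, rfl⟩, hxU, hUW⟩ := C.isBasis_affineOpens.exists_subset_of_mem_open (a := x) hx W.2
    exact Opens.mem_iSup.2 ⟨⟨⟨U, hU⟩, hUW⟩, hxU⟩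
  · obtain ⟨hW', hs⟩ := chart_of_le i V.1.2 (le_coborderRange i _)
    have hV := ((cls_surjective_and_eq_zero_iff i V.1.2 hW' hs).2
      ((ClSub.idealMod i.ker).presheaf.map (homOfLE V.2).op m)).mp (by
        rw [pullMap_eq, pullSect_res, hm, map_zero])
    rw [T.sq _ V.1.2, Ideal.mem_bot, idealSect_res] at hV
    exact hV.trans (map_zero _).symm

theorem lifts_unique (T : Thick i d₁ d₂ φ c) {W : C.Opens} {b ω a a'} (h : Lifts i d₁ W b ω a)
    (h' : Lifts i d₁ W b ω a') : a = a' :=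
  sub_eq_zero.mp (eq_zero T (W := W)
    ⟨by rw [map_sub, h.1, h'.1, sub_self], by rw [map_sub, map_sub, h.2, h'.2, sub_self]⟩)

theorem exists_lifts_affine (T : Thick i d₁ d₂ φ c) {V : C.Opens} (hV : IsAffineOpen V) {b ω}
    (h : c.app (i ⁻¹ᵁ V) ω = d₂.app (i ⁻¹ᵁ V) b) : ∃ a, Lifts i d₁ V b ω a := by
  obtain ⟨hW', hs⟩ := chart_of_le i hV (le_coborderRange i _)
  obtain ⟨a₀, ha₀⟩ := hs b
  haveI := T.mono
  obtain ⟨n, hn⟩ := exists_app_eq T.exact (i ⁻¹ᵁ V) (ω - OmegaSh.pullSect i Ω₁ V (d₁.app V a₀)) (by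
    show c.app _ _ = 0
    rw [map_sub, h, T.compat, ha₀, sub_self])
  obtain ⟨m, rfl⟩ := (cls_surjective_and_eq_zero_iff i hV hW' hs).1 n
  refine ⟨a₀ + OmegaSh.idealSect i.ker V m, by rw [map_add, app_idealSect, ha₀, add_zero], ?_⟩
  rw [map_add, map_add, ← conormal_apply T V m, ← pullMap_eq i (ClSub.idealMod i.ker)]
  refine (congrArg (_ + ·) hn).trans ?_
  exact add_sub_cancel _ _

theorem existsUnique_lifts (T : Thick i d₁ d₂ φ c) {W : C.Opens} {b ω}
    (h : c.app (i ⁻¹ᵁ W) ω = d₂.app (i ⁻¹ᵁ W) b) : ∃ a, Lifts i d₁ W b ω a := by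
  let ι := {V : C.affineOpens // V.1 ≤ W}
  let B : ι → C.Opens := fun V => V.1.1
  have hcov : W ≤ iSup B := fun x hx => by
    obtain ⟨_, ⟨U, hU, rfl⟩, hxU, hUW⟩ := C.isBasis_affineOpens.exists_subset_of_mem_open (a := x) hx W.2
    exact Opens.mem_iSup.2 ⟨⟨⟨U, hU⟩, hUW⟩, hxU⟩
  have h' : ∀ V : ι, ∃ a, Lifts i d₁ (B V) (D.presheaf.map (homOfLE (i.preimage_mono V.2)).op b)
      (((Scheme.Modules.pullback i).obj Ω₁).presheaf.map (homOfLE (i.preimage_mono V.2)).op ω) a :=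
    fun V => exists_lifts_affine T V.1.2 (by rw [hom_natural, h, app_res])
  choose a ha using h'
  obtain ⟨g, hg, -⟩ := C.sheaf.existsUnique_gluing' B W (fun V => homOfLE V.2) hcov a (fun V V' => by
    have e1 := (ha V).res i d₁ (inf_le_left : B V ⊓ B V' ≤ B V)
    have e2 := (ha V').res i d₁ (inf_le_right : B V ⊓ B V' ≤ B V')
    rw [ConormalLib.res_res, ConormalLib.res_mod] at e1 e2
    exact lifts_unique T e1 e2)
  refine ⟨g, ?_, ?_⟩
  · refine TopCat.Sheaf.eq_of_locally_eq' D.sheaf (fun V : ι => i ⁻¹ᵁ B V) (i ⁻¹ᵁ W)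
      (fun V => homOfLE (i.preimage_mono V.2)) (fun x hx => ?_) _ _ (fun V => ?_)
    · obtain ⟨V, hV⟩ := Opens.mem_iSup.1 (hcov hx)
      exact Opens.mem_iSup.2 ⟨V, hV⟩
    · refine Eq.trans ?_ (ha V).1
      rw [← hg V]
      exact (congr($(i.naturality (homOfLE V.2).op) g)).symm
  · let M := (Scheme.Modules.pullback i).obj Ω₁
    refine TopCat.Sheaf.eq_of_locally_eq' (C := Ab.{u}) ⟨M.presheaf, M.isSheaf⟩ (fun V : ι => i ⁻¹ᵁ B V) (i ⁻¹ᵁ W)
      (fun V => homOfLE (i.preimage_mono V.2)) (fun x hx => ?_) _ _ (fun V => ?_)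
    · obtain ⟨V, hV⟩ := Opens.mem_iSup.1 (hcov hx)
      exact Opens.mem_iSup.2 ⟨V, hV⟩
    · refine Eq.trans ?_ (ha V).2
      rw [← hg V]
      exact (pullSect_res i Ω₁ V.2 _).symm.trans (congrArg _ (app_res d₁ (homOfLE V.2) g).symm)

section Extend

variable {X : Scheme.{u}} {pX : X ⟶ S} {Ω₃ : X.Modules} {d₃ : OmegaSh.Der pX Ω₃} {f : D ⟶ X}
  {df : (Scheme.Modules.pullback f).obj Ω₃ ⟶ Ω₂}
  {s : (Scheme.Modules.pullback f).obj Ω₃ ⟶ (Scheme.Modules.pullback i).obj Ω₁}

theorem exists_val (T : Thick i d₁ d₂ φ c) (hdf : OmegaSh.IsDiffCompat f d₃ d₂ df) (hs : s ≫ c = df)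
    {U : X.Opens} {W : C.Opens} (e : i ⁻¹ᵁ W ≤ f ⁻¹ᵁ U) (b : Γ(X, U)) :
    ∃ a, Lifts i d₁ W (f.appLE U _ e b) (s.app _ (PullbackMod.pullMap f Ω₃ e (d₃.app U b))) a := by
  refine existsUnique_lifts T ?_
  show (s ≫ c).app _ _ = _
  rw [hs]
  show df.app _ (((Scheme.Modules.pullback f).obj Ω₃).presheaf.map (homOfLE e).op _) = _
  rw [hom_natural, hdf, ← app_res]
  rfl

variable (T : Thick i d₁ d₂ φ c) (hdf : OmegaSh.IsDiffCompat f d₃ d₂ df) (hs : s ≫ c = df)

/-- The extension on sections. -/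
def val {U : X.Opens} {W : C.Opens} (e : i ⁻¹ᵁ W ≤ f ⁻¹ᵁ U) (b : Γ(X, U)) : Γ(C, W) :=
  (exists_val T hdf hs e b).choose

theorem val_spec {U : X.Opens} {W : C.Opens} (e : i ⁻¹ᵁ W ≤ f ⁻¹ᵁ U) (b : Γ(X, U)) :
    Lifts i d₁ W (f.appLE U _ e b) (s.app _ (PullbackMod.pullMap f Ω₃ e (d₃.app U b))) (val T hdf hs e b) :=
  (exists_val T hdf hs e b).choose_spec

theorem val_eq {U : X.Opens} {W : C.Opens} (e : i ⁻¹ᵁ W ≤ f ⁻¹ᵁ U) (b : Γ(X, U)) {a : Γ(C, W)}
    (h : Lifts i d₁ W (f.appLE U _ e b) (s.app _ (PullbackMod.pullMap f Ω₃ e (d₃.app U b))) a) :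
    val T hdf hs e b = a :=
  lifts_unique T (val_spec T hdf hs e b) h

/-- The extension on sections, as a ring map. -/
def ringMap {U : X.Opens} {W : C.Opens} (e : i ⁻¹ᵁ W ≤ f ⁻¹ᵁ U) : Γ(X, U) →+* Γ(C, W) where
  toFun := val T hdf hs e
  map_one' := val_eq T hdf hs e 1 (by
    rw [map_one, app_one, map_zero, map_zero]; exact Lifts.one i d₁ W)
  map_zero' := val_eq T hdf hs e 0 (by
    rw [map_zero, map_zero, map_zero, map_zero]; exact Lifts.zero i d₁ W)
  map_add' x y := val_eq T hdf hs e _ (by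
    rw [map_add, map_add, map_add, map_add]; exact (val_spec T hdf hs e x).add i d₁ (val_spec T hdf hs e y))
  map_mul' x y := val_eq T hdf hs e _ (by
    rw [map_mul, app_mul, map_add, map_add, PullbackMod.pullMap_smul, PullbackMod.pullMap_smul,
      Scheme.Modules.Hom.app_smul, Scheme.Modules.Hom.app_smul]
    exact (val_spec T hdf hs e x).mul i d₁ (val_spec T hdf hs e y))

theorem ringMap_res {U U' : X.Opens} {W W' : C.Opens} (e : i ⁻¹ᵁ W ≤ f ⁻¹ᵁ U) (e' : i ⁻¹ᵁ W' ≤ f ⁻¹ᵁ U')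
    (hU : U' ≤ U) (hW : W' ≤ W) (b : Γ(X, U)) :
    ringMap T hdf hs e' (X.presheaf.map (homOfLE hU).op b) = C.presheaf.map (homOfLE hW).op (ringMap T hdf hs e b) := by
  refine val_eq T hdf hs e' _ ?_
  have h := (val_spec T hdf hs e b).res i d₁ hW
  rw [← hom_natural] at h
  rw [app_res, pullMap_res f Ω₃ e e' hU (i.preimage_mono hW)]
  rwa [show f.appLE U' _ e' (X.presheaf.map (homOfLE hU).op b) =
      D.presheaf.map (homOfLE (i.preimage_mono hW)).op (f.appLE U _ e b) from ?_]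
  rw [← CommRingCat.comp_apply, ← CommRingCat.comp_apply, Scheme.Hom.map_appLE, Scheme.Hom.appLE_map]

/-- The homeomorphism underlying the thickening. -/
def homeo : D ≃ₜ C :=
  (Equiv.ofBijective i ⟨i.isClosedEmbedding.injective, T.surj⟩).toHomeomorphOfContinuousOpen i.continuous
    (i.isClosedEmbedding.isEmbedding.isInducing.isOpenMap (by rw [T.surj.range_eq]; exact isOpen_univ))

theorem homeo_apply (x : D) : homeo T x = i x := rfl

/-- The underlying map of the extension. -/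
def base (f : D ⟶ X) : C.carrier ⟶ X.carrier :=
  TopCat.ofHom ⟨f ∘ (homeo T).symm, f.continuous.comp (homeo T).symm.continuous⟩

theorem base_i (x : D) : base T f (i x) = f x := by
  show f ((homeo T).symm (homeo T x)) = f x
  rw [Homeomorph.symm_apply_apply]

theorem preimage_base (U : X.Opens) : i ⁻¹ᵁ (Opens.map (base T f)).obj U ≤ f ⁻¹ᵁ U := fun x hx => by
  show f x ∈ U
  rw [← base_i T x]
  exact hx

theorem preimage_base' (U : X.Opens) : f ⁻¹ᵁ U ≤ i ⁻¹ᵁ (Opens.map (base T f)).obj U := fun x hx => by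
  show base T f (i x) ∈ U
  rw [base_i T x]
  exact hx

/-- The extension. -/
def extend : C ⟶ X where
  base := base T f
  c :=
    { app := fun U => CommRingCat.ofHom (ringMap T hdf hs (preimage_base T U.unop))
      naturality := fun U U' k => by
        ext b
        exact ringMap_res T hdf hs (preimage_base T U.unop) (preimage_base T U'.unop) k.unop.le
          ((Opens.map (base T f)).map k.unop).le b }
  prop y := by
    obtain ⟨x, rfl⟩ := T.surj y
    refine ⟨fun t ht => ?_⟩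
    obtain ⟨U, hU, b, rfl⟩ := TopCat.Presheaf.exists_germ_eq X.presheaf t
    erw [PresheafedSpace.stalkMap_germ_apply] at ht
    have h1 : i x ∈ C.basicOpen (ringMap T hdf hs (preimage_base T U) b) :=
      (C.mem_basicOpen _ _ hU).mpr ht
    have h2 : x ∈ D.basicOpen (i.app _ (ringMap T hdf hs (preimage_base T U) b)) := by
      rw [← Scheme.preimage_basicOpen]; exact h1
    rw [show i.app _ (ringMap T hdf hs (preimage_base T U) b) = f.appLE U _ (preimage_base T U) b from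
      (val_spec T hdf hs _ b).1, Scheme.basicOpen_appLE] at h2
    exact (X.mem_basicOpen _ _ hU).mp (by rw [base_i T x]; exact h2.2)

theorem extend_app (U : X.Opens) (b : Γ(X, U)) :
    (extend T hdf hs).app U b = ringMap T hdf hs (preimage_base T U) b := rfl

theorem comp_extend : i ≫ extend T hdf hs = f := by
  refine Scheme.Hom.ext (TopCat.hom_ext (ContinuousMap.ext fun x => base_i T x)) fun U => ?_
  ext b
  show D.presheaf.map _ (i.app _ (ringMap T hdf hs (preimage_base T U) b)) = f.app U b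
  rw [show i.app _ (ringMap T hdf hs (preimage_base T U) b) = f.appLE U _ (preimage_base T U) b from
    (val_spec T hdf hs _ b).1, ← CommRingCat.comp_apply, Scheme.Hom.appLE_map, Scheme.Hom.appLE, Subsingleton.elim (homOfLE _) (𝟙 _), op_id,
    CategoryTheory.Functor.map_id, Category.comp_id]

theorem extend_comp [IsAffine S] (hf : f ≫ pX = i ≫ pC) : extend T hdf hs ≫ pX = pC := by
  refine ext_of_isAffine ?_
  ext r
  show ringMap T hdf hs (preimage_base T _) (pX.appTop r) = pC.appTop r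
  refine val_eq T hdf hs _ _ ⟨?_, ?_⟩
  · show i.appTop (pC.appTop r) = _
    rw [← CommRingCat.comp_apply, ← Scheme.Hom.comp_appTop, ← hf, Scheme.Hom.comp_appTop]
    exact (congr($(D.presheaf.map_id _) (f.appTop (pX.appTop r)))).symm
  · erw [show d₁.app ⊤ (pC.appTop r) = 0 from d₁.d_app (X := op ⊤) r,
      show d₃.app ⊤ (pX.appTop r) = 0 from d₃.d_app (X := op ⊤) r, map_zero, map_zero, map_zero]

end Extend

section Converse

omit [IsClosedImmersion i] in
theorem exists_split {X : Scheme.{u}} {pX : X ⟶ S} {Ω₃ : X.Modules} {d₃ : OmegaSh.Der pX Ω₃}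
    (hd₃ : OmegaSh.IsUniversal d₃) (g : C ⟶ X) (hg : g ≫ pX = pC) (hc : OmegaSh.IsDiffCompat i d₁ d₂ c)
    (df : (Scheme.Modules.pullback (i ≫ g)).obj Ω₃ ⟶ Ω₂) (hdf : OmegaSh.IsDiffCompat (i ≫ g) d₃ d₂ df) :
    ∃ s : (Scheme.Modules.pullback (i ≫ g)).obj Ω₃ ⟶ (Scheme.Modules.pullback i).obj Ω₁, s ≫ c = df := by
  let F := (Scheme.Modules.pushforward (i ≫ g)).obj ((Scheme.Modules.pullback i).obj Ω₁)
  let δ : ∀ U : X.Opens, Γ(X, U) →+ Γ(F, U) := fun U =>
    ((OmegaSh.pullSect i Ω₁ (g ⁻¹ᵁ U)).hom.comp (d₁.app (g ⁻¹ᵁ U))).comp (g.app U).hom.toAddMonoidHom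
  let D₁ : OmegaSh.Der pX F := mkDer δ
    (fun U a b => by
      show OmegaSh.pullSect i Ω₁ (g ⁻¹ᵁ U) (d₁.app _ (g.app U (a * b))) = _
      rw [map_mul, app_mul, map_add, pullSect_smul, pullSect_smul]
      rfl)
    (fun {U V} k x => by
      show OmegaSh.pullSect i Ω₁ (g ⁻¹ᵁ U) (d₁.app _ (g.app U (X.presheaf.map k.op x))) = _
      rw [show g.app U (X.presheaf.map k.op x) = C.presheaf.map ((Opens.map g.base).map k).op (g.app V x) from
        congr($(g.naturality k.op) x), app_res]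
      exact OmegaUnivLib.hom_natural ((Scheme.Modules.pullbackPushforwardAdjunction i).unit.app Ω₁) _ _)
    (fun V r => by
      show OmegaSh.pullSect i Ω₁ (g ⁻¹ᵁ (pX ⁻¹ᵁ V)) (d₁.app _ (g.app _ (pX.app V r))) = 0
      have h0 : d₁.app (g ⁻¹ᵁ (pX ⁻¹ᵁ V)) (g.app _ (pX.app V r)) = 0 := by
        subst hg
        exact d₁.d_app (X := op V) r
      rw [h0, map_zero])
  obtain ⟨α, hα, -⟩ := hd₃ F D₁
  let adj := Scheme.Modules.pullbackPushforwardAdjunction (i ≫ g)
  refine ⟨(adj.homEquiv _ _).symm α, (adj.homEquiv _ _).injective ?_⟩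
  rw [adj.homEquiv_naturality_right, Equiv.apply_symm_apply]
  refine (hd₃ _ (comp D₁ ((Scheme.Modules.pushforward (i ≫ g)).map c))).unique ?_ ?_
  · rw [← hα]
    exact der_ext fun U b => rfl
  · refine der_ext fun U b => ?_
    show ((adj.homEquiv _ _) df).app U (d₃.app U b) = c.app _ (OmegaSh.pullSect i Ω₁ (g ⁻¹ᵁ U) (d₁.app _ (g.app U b)))
    rw [Adjunction.homEquiv_unit]
    refine (hdf U b).trans ?_
    refine Eq.trans ?_ (hc (g ⁻¹ᵁ U) (g.app U b)).symm
    rfl

end Converse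

theorem thick_of_ribbon (hR : MultCurve.IsRibbon i) (hφ : OmegaSh.IsConormalDiff i d₁ φ)
    (hc : OmegaSh.IsDiffCompat i d₁ d₂ c) (hw : φ ≫ c = 0) (hS : (ShortComplex.mk φ c hw).ShortExact) :
    Thick i d₁ d₂ φ c where
  sq U hU := by
    rw [← pow_two, ← Scheme.Hom.ker_apply i ⟨U, hU⟩]
    have := congr($(hR.1.2.1).ideal ⟨U, hU⟩)
    rwa [Scheme.IdealSheafData.ideal_pow, Scheme.IdealSheafData.ideal_bot, Pi.pow_apply, Pi.bot_apply] at this
  surj x := by
    have hx : x ∈ (i.ker.support : Set C) := by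
      rw [← Scheme.IdealSheafData.support_pow i.ker 2 two_ne_zero, hR.1.2.1, Scheme.IdealSheafData.support_bot]
      trivial
    rw [Scheme.Hom.support_ker] at hx
    exact i.isClosedEmbedding.isClosed_range.closure_eq.le hx
  conormal := hφ
  compat := hc
  w := hw
  exact := hS.exact
  mono := hS.mono_f

end

end Groth.Agent.RibbonExt
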